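import Groth.Agent.SymSh.OfAffine
import Groth.Agent.QCoh.AlgGen

/-!
# The quasi-coherent subalgebra generated by a submodule of finite type
-/

universe u

open CategoryTheory CategoryTheory.Limits AlgebraicGeometry TopologicalSpace Opposite

set_option linter.style.haveILetI false
set_option backward.isDefEq.respectTransparency false
set_option backward.isDefEq.respectTransparency.types false

noncomputable section

namespace Groth.Agent.SymSh

open Groth.Agent

variable {X : Scheme.{u}} (B : RelSpec.QCAlg X) (N : QCoh.SubMod B.toModule)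

/-- The generated subrings on affine opens. -/
def genF : X.AffineZariskiSiteᵒᵖ ⥤ CommRingCat.{u} where
  obj U := CommRingCat.of (QCoh.genRing B N U.unop.1)
  map {U V} i := CommRingCat.ofHom
    ((QCoh.rB B (Scheme.AffineZariskiSite.toOpens_mono i.unop.le)).restrict (QCoh.genRing B N U.unop.1)
      (QCoh.genRing B N V.unop.1) fun _ hb => QCoh.rB_mem_genRing B N _ hb)
  map_id U := CommRingCat.hom_ext (RingHom.ext fun b => Subtype.ext
    congr($(B.presheaf.map_id (op U.unop.1)) b.1))
  map_comp {U V W} i j := CommRingCat.hom_ext (RingHom.ext fun b => Subtype.ext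
    congr($(B.presheaf.map_comp (homOfLE (Scheme.AffineZariskiSite.toOpens_mono i.unop.le)).op
      (homOfLE (Scheme.AffineZariskiSite.toOpens_mono j.unop.le)).op) b.1))

/-- The scalars. -/
def genα : (Scheme.AffineZariskiSite.toOpensFunctor X).op ⋙ X.presheaf ⟶ genF B N where
  app U := CommRingCat.ofHom
    ((B.str.app (op U.unop.1)).hom.codRestrict (QCoh.genRing B N U.unop.1) fun a => QCoh.str_mem_genRing B N a)
  naturality U V i := CommRingCat.hom_ext (RingHom.ext fun a => Subtype.ext
    congr($(B.str.naturality (homOfLE (Scheme.AffineZariskiSite.toOpens_mono i.unop.le)).op) a))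

theorem gen_coequifibered (hN : QCoh.FTOn N ⊤) : (genα B N).Coequifibered := by
  refine Scheme.AffineZariskiSite.coequifibered_iff_forall_isLocalizationAway.mpr fun U r => ?_
  let φ : QCoh.genRing B N U.1 →+* QCoh.genRing B N (X.basicOpen r) :=
    (QCoh.rB B (X.basicOpen_le r)).restrict (QCoh.genRing B N U.1)
      (QCoh.genRing B N (X.basicOpen r)) fun _ hb => QCoh.rB_mem_genRing B N _ hb
  letI : Algebra (QCoh.genRing B N U.1) (QCoh.genRing B N (X.basicOpen r)) := φ.toAlgebra
  let z : QCoh.genRing B N U.1 := ⟨(B.str.app (op U.1)).hom r, QCoh.str_mem_genRing B N r⟩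
  show IsLocalization (Submonoid.powers z) (QCoh.genRing B N (X.basicOpen r))
  have hz : (φ z).1 = (B.str.app (op (X.basicOpen r))).hom (QCoh.rf X (X.basicOpen_le r) r) :=
    QCoh.rB_str B _ r
  refine (isLocalization_iff _ _).2 ⟨?_, fun y => ?_, fun {a b} hab => ?_⟩
  · rintro ⟨_, n, rfl⟩
    obtain ⟨v, hv⟩ := (QCoh.isUnit_rf_basicOpen r).exists_left_inv
    have hu : IsUnit (φ z) := IsUnit.of_mul_eq_one
      ⟨(B.str.app (op (X.basicOpen r))).hom v, QCoh.str_mem_genRing B N v⟩ (Subtype.ext (by
        show (φ z).1 * _ = _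
        rw [hz, ← map_mul, mul_comm, hv, map_one]; rfl))
    show IsUnit (φ (z ^ n))
    rw [map_pow]
    exact hu.pow n
  · obtain ⟨n, c, hc, hcy⟩ := QCoh.exists_lift_genRing B hN U.2 r y.2
    refine ⟨⟨⟨c, hc⟩, ⟨z ^ n, n, rfl⟩⟩, Subtype.ext ?_⟩
    show y.1 * (φ (z ^ n)).1 = QCoh.rB B (X.basicOpen_le r) c
    rw [map_pow, Subring.coe_pow, hz, hcy, mul_comm]
  · have hab' : QCoh.rB B (X.basicOpen_le r) a.1 = QCoh.rB B (X.basicOpen_le r) b.1 :=
      congrArg Subtype.val hab
    letI := (B.presheaf.map (homOfLE (X.basicOpen_le r)).op).hom.toAlgebra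
    haveI := B.isQC U.1 U.2 r
    obtain ⟨⟨_, n, rfl⟩, hn⟩ := IsLocalization.exists_of_eq
      (M := Submonoid.powers ((B.str.app (op U.1)).hom r)) (S := B.presheaf.obj (op (X.basicOpen r))) hab'
    exact ⟨⟨z ^ n, n, rfl⟩, Subtype.ext hn⟩

variable {B N}

/-- The generated subalgebra. -/
theorem exists_subalg (hN : QCoh.FTOn N ⊤) : ∃ (B' : RelSpec.QCAlg X) (φ : B' ⟶ B),
    (∀ V : X.Opens, Function.Injective (φ.hom.app (op V)).hom) ∧
    (∀ V : X.affineOpens, (B'.str.app (op (V : X.Opens))).hom.FiniteType) ∧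
    ∀ (V : X.affineOpens) (b : B.presheaf.obj (op (V : X.Opens))), b ∈ N.mem V.1 →
      b ∈ Set.range (φ.hom.app (op (V : X.Opens))).hom := by
  let H := gen_coequifibered B N hN
  let θ : ∀ U : X.AffineZariskiSite, (alg H).presheaf.obj (op U.1) ⟶ B.presheaf.obj (op U.1) := fun U =>
    gsec H U ≫ CommRingCat.ofHom (QCoh.genRing B N U.1).subtype
  obtain ⟨φ, hφ⟩ := exists_hom (A := alg H) (B := B) θ (fun {U V} i => by
      show _ ≫ gsec H V ≫ _ = (gsec H U ≫ _) ≫ _
      rw [← Category.assoc, gsec_naturality H i, Category.assoc, Category.assoc]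
      rfl)
    (fun U => by
      show (alg H).str.app (op U.1) ≫ gsec H U ≫ _ = _
      rw [← Category.assoc, str_gsec H U]
      rfl)
  have hinj : ∀ U : X.AffineZariskiSite, Function.Injective (φ.hom.app (op U.1)).hom := fun U => by
    rw [hφ U]
    haveI := isIso_gsec H U
    exact Subtype.val_injective.comp (ConcreteCategory.bijective_of_isIso (gsec H U)).1
  refine ⟨alg H, φ, fun V => (injective_iff_map_eq_zero _).2 fun a ha => ?_, fun V => ?_, fun V b hb => ?_⟩
  · refine TopCat.Sheaf.eq_of_locally_eq' ⟨(alg H).presheaf, (alg H).isSheaf⟩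
      (fun W : {W : X.affineOpens // W.1 ≤ V} => W.1.1) V (fun W => homOfLE W.2) (fun y hy => ?_) _ _ fun W => ?_
    · obtain ⟨_, ⟨W, hW, rfl⟩, hyW, hWV⟩ := X.isBasis_affineOpens.exists_subset_of_mem_open hy V.2
      exact Opens.mem_iSup.2 ⟨⟨⟨W, hW⟩, hWV⟩, hyW⟩
    · refine hinj ⟨W.1.1, W.1.2⟩ ?_
      show φ.hom.app (op W.1.1) ((alg H).presheaf.map _ a) = φ.hom.app (op W.1.1) ((alg H).presheaf.map _ 0)
      rw [map_zero, map_zero]
      refine (congr($(φ.hom.naturality (homOfLE W.2).op) a)).trans ?_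
      show B.presheaf.map _ (φ.hom.app (op V) a) = 0
      rw [show φ.hom.app (op V) a = 0 from ha, map_zero]
  · obtain ⟨V, hV⟩ := V
    let U : X.AffineZariskiSite := ⟨V, hV⟩
    haveI := isIso_gsec H U
    let e := (asIso (gsec H U)).commRingCatIsoToRingEquiv
    have he : ((alg H).str.app (op V)).hom = e.symm.toRingHom.comp ((genα B N).app (op U)).hom :=
      RingHom.ext fun r => (e.eq_symm_apply.2 congr($(str_gsec H U) r))
    rw [he]
    refine RingHom.FiniteType.comp (RingHom.FiniteType.of_surjective _ e.symm.surjective) ?_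
    haveI : Module.Finite Γ(X, V) Γ(N.toModules, V) :=
      QCoh.finite_of_isFT (QCoh.isQCoh_of_ftOn (QCoh.isQCoh_toModule B) hN)
        (QCoh.isFT_of_ftOn (QCoh.isQCoh_toModule B) hN) hV
    classical
    obtain ⟨s, hs⟩ := Module.Finite.fg_top (R := Γ(X, V)) (M := Γ(N.toModules, V))
    let g : Γ(N.toModules, V) → QCoh.genRing B N V := fun t =>
      ⟨N.ι.app V t, Subring.subset_closure (Or.inr (N.ι_app_mem V t))⟩
    let str := (B.str.app (op V)).hom.codRestrict (QCoh.genRing B N V) fun a => QCoh.str_mem_genRing B N a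
    letI : Algebra Γ(X, V) (QCoh.genRing B N V) := str.toAlgebra
    show str.FiniteType
    refine RingHom.finiteType_algebraMap.2 ⟨⟨s.image g, ?_⟩⟩
    refine eq_top_iff.2 fun b _ => ?_
    obtain ⟨b, hb⟩ := b
    induction hb using Subring.closure_induction with
    | mem x hx =>
      rcases hx with ⟨a, rfl⟩ | hx
      · exact Subalgebra.algebraMap_mem (Algebra.adjoin _ _) a
      · obtain ⟨t, ht⟩ := N.exists_app_eq hx
        have htm : t ∈ Submodule.span Γ(X, V) (s : Set Γ(N.toModules, V)) := hs ▸ trivial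
        suffices h : g t ∈ Algebra.adjoin Γ(X, V) (s.image g : Set (QCoh.genRing B N V)) by
          convert h using 1
          exact Subtype.ext ht.symm
        clear ht
        induction htm using Submodule.span_induction with
        | mem y hy => exact Algebra.subset_adjoin (by simpa using ⟨y, hy, rfl⟩)
        | zero =>
          rw [show g 0 = 0 from Subtype.ext (map_zero _)]; exact zero_mem _
        | add p q _ _ hp hq =>
          rw [show g (p + q) = g p + g q from Subtype.ext (map_add _ _ _)]; exact add_mem hp hq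
        | smul c y _ hy =>
          rw [show g (c • y) = str c * g y from Subtype.ext (QCoh.ι_app_smul c y)]
          exact mul_mem (Subalgebra.algebraMap_mem (Algebra.adjoin _ _) c) hy
    | zero => exact zero_mem _
    | one => exact one_mem _
    | add x y hx hy ihx ihy => exact add_mem (ihx trivial) (ihy trivial)
    | neg x hx ihx => exact neg_mem (ihx trivial)
    | mul x y hx hy ihx ihy => exact mul_mem (ihx trivial) (ihy trivial)
  · obtain ⟨V, hV⟩ := V
    haveI := isIso_gsec H (⟨V, hV⟩ : X.AffineZariskiSite)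
    obtain ⟨a, ha⟩ := (ConcreteCategory.bijective_of_isIso (gsec H (⟨V, hV⟩ : X.AffineZariskiSite))).2
      ⟨b, Subring.subset_closure (Or.inr hb)⟩
    refine ⟨a, ?_⟩
    rw [hφ ⟨V, hV⟩]
    exact congrArg Subtype.val ha

end Groth.Agent.SymSh
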