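import Groth.Agent.SymSh.Basic
import Groth.Agent.RelSpecX.Spec
import Mathlib.AlgebraicGeometry.Morphisms.FiniteType
import Mathlib.AlgebraicGeometry.Morphisms.ClosedImmersion

/-!
# Vector bundles as relative spectra of symmetric algebras
-/

universe u

open CategoryTheory CategoryTheory.Limits AlgebraicGeometry TopologicalSpace Opposite

set_option linter.style.haveILetI false
set_option linter.unusedSectionVars false
set_option backward.isDefEq.respectTransparency false
set_option backward.isDefEq.respectTransparency.types false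

noncomputable section

namespace Groth.Agent.SymSh

open Groth.Agent

variable {S : Scheme.{u}}

theorem toModuleMap_id (A : RelSpec.QCAlg S) :
    RelSpec.QCAlg.Hom.toModuleMap (𝟙 A) = 𝟙 A.toModule := rfl

theorem toModuleMap_comp {A B C : RelSpec.QCAlg S} (f : A ⟶ B) (g : B ⟶ C) :
    RelSpec.QCAlg.Hom.toModuleMap (f ≫ g) =
      RelSpec.QCAlg.Hom.toModuleMap f ≫ RelSpec.QCAlg.Hom.toModuleMap g := rfl

/-- Symmetric algebras are unique up to a unique isomorphism. -/
theorem exists_iso {E : S.Modules} {A A' : RelSpec.QCAlg S} {j : E ⟶ A.toModule} {j' : E ⟶ A'.toModule}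
    (hA : RelSpec.IsSymAlg E A j) (hA' : RelSpec.IsSymAlg E A' j') :
    ∃ e : A ≅ A', j ≫ RelSpec.QCAlg.Hom.toModuleMap e.hom = j' := by
  obtain ⟨f, hf, -⟩ := hA A' j'
  obtain ⟨g, hg, -⟩ := hA' A j
  refine ⟨⟨f, g, ?_, ?_⟩, hf⟩
  · refine (hA A j).unique ?_ ?_
    · show j ≫ RelSpec.QCAlg.Hom.toModuleMap (f ≫ g) = j
      rw [toModuleMap_comp, ← Category.assoc, hf, hg]
    · show j ≫ RelSpec.QCAlg.Hom.toModuleMap (𝟙 A) = j
      rw [toModuleMap_id, Category.comp_id]
  · refine (hA' A' j').unique ?_ ?_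
    · show j' ≫ RelSpec.QCAlg.Hom.toModuleMap (g ≫ f) = j'
      rw [toModuleMap_comp, ← Category.assoc, hg, hf]
    · show j' ≫ RelSpec.QCAlg.Hom.toModuleMap (𝟙 A') = j'
      rw [toModuleMap_id, Category.comp_id]

/-- Sections of a symmetric algebra over an affine open form the symmetric algebra of the sections. -/
theorem exists_sec {E : S.Modules} (hE : Coh.IsQCoh E) {A : RelSpec.QCAlg S} {jA : E ⟶ A.toModule}
    (hA : RelSpec.IsSymAlg E A jA) {U : S.Opens} (hU : IsAffineOpen U) :
    ∃ e : A.presheaf.obj (op U) ≃+* SymmetricAlgebra Γ(S, U) (E.val.obj (op U)),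
      (∀ r : Γ(S, U), e (A.str.app (op U) r) = algebraMap _ _ r) ∧
        ∀ x : E.val.obj (op U), e (show A.presheaf.obj (op U) from jA.val.app (op U) x) = SymmetricAlgebra.ι _ _ x := by
  obtain ⟨a, ha⟩ := exists_iso hA (isSymAlg E hE)
  let i : A.presheaf.obj (op U) ≅ (Sym E hE).presheaf.obj (op U) :=
    { hom := a.hom.hom.app (op U)
      inv := a.inv.hom.app (op U)
      hom_inv_id := congr(($(a.hom_inv_id)).hom.app (op U))
      inv_hom_id := congr(($(a.inv_hom_id)).hom.app (op U)) }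
  refine ⟨i.commRingCatIsoToRingEquiv.trans (sec E hE ⟨U, hU⟩), fun r => ?_, fun x => ?_⟩
  · show sec E hE ⟨U, hU⟩ (a.hom.hom.app (op U) (A.str.app (op U) r)) = _
    refine Eq.trans (congrArg _ ?_) (sec_str E hE ⟨U, hU⟩ r)
    exact congr($(NatTrans.congr_app a.hom.comm (op U)) r)
  · show sec E hE ⟨U, hU⟩ (a.hom.hom.app (op U) _) = _
    refine Eq.trans (congrArg _ ?_) ((sec E hE ⟨U, hU⟩).apply_symm_apply _)
    exact (congrArg (fun t : E ⟶ (Sym E hE).toModule => t.val.app (op U) x) ha).trans (j_app E hE ⟨U, hU⟩ x)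

/-- A vector bundle of a module of finite type is of finite type. -/
theorem locallyOfFiniteType_π {E : S.Modules} (hE : Coh.IsQCoh E)
    (hfin : ∀ U : S.affineOpens, Module.Finite Γ(S, U.1) (E.val.obj (op U.1))) {A : RelSpec.QCAlg S}
    {jA : E ⟶ A.toModule} (hA : RelSpec.IsSymAlg E A jA) : LocallyOfFiniteType A.π := by
  refine (IsZariskiLocalAtSource.iff_of_openCover (P := @LocallyOfFiniteType) A.glueData.cover).2 fun U => ?_
  show LocallyOfFiniteType (A.ι U.1 U.2 ≫ A.π)
  rw [A.ι_π]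
  suffices LocallyOfFiniteType (Spec.map (A.str.app (op U.1))) from inferInstance
  rw [HasRingHomProperty.Spec_iff (P := @LocallyOfFiniteType)]
  obtain ⟨e, he, -⟩ := exists_sec hE hA U.2
  haveI := hfin ⟨U.1, U.2⟩
  haveI : Algebra.FiniteType Γ(S, U.1) (SymmetricAlgebra Γ(S, U.1) (E.val.obj (op U.1))) := by
    classical
    obtain ⟨s, hs⟩ := Module.Finite.fg_top (R := Γ(S, U.1)) (M := E.val.obj (op U.1))
    refine ⟨⟨s.image (SymmetricAlgebra.ι _ _), eq_top_iff.2 fun x _ => ?_⟩⟩
    induction x using SymmetricAlgebra.induction with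
    | algebraMap r => exact Subalgebra.algebraMap_mem _ r
    | ι m =>
      have hm : m ∈ Submodule.span Γ(S, U.1) (s : Set (E.val.obj (op U.1))) := hs ▸ trivial
      induction hm using Submodule.span_induction with
      | mem y hy => exact Algebra.subset_adjoin (by simpa using ⟨y, hy, rfl⟩)
      | zero => rw [map_zero]; exact zero_mem _
      | add y z _ _ hy hz => rw [map_add]; exact add_mem (hy trivial) (hz trivial)
      | smul c y _ hy => rw [map_smul]; exact Subalgebra.smul_mem _ (hy trivial) c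
    | mul a b ha hb => exact mul_mem (ha trivial) (hb trivial)
    | add a b ha hb => exact add_mem (ha trivial) (hb trivial)
  have h1 : (algebraMap Γ(S, U.1) (SymmetricAlgebra Γ(S, U.1) (E.val.obj (op U.1)))).FiniteType :=
    RingHom.finiteType_algebraMap.2 ‹_›
  have h2 : (A.str.app (op U.1)).hom =
      e.symm.toRingHom.comp (algebraMap Γ(S, U.1) (SymmetricAlgebra Γ(S, U.1) (E.val.obj (op U.1)))) :=
    RingHom.ext fun r => (e.eq_symm_apply.2 (he r))
  rw [h2]
  exact (RingHom.FiniteType.of_surjective _ e.symm.surjective).comp h1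

/-- An epimorphism of modules gives a closed immersion of vector bundles. -/
theorem isClosedImmersion_specMap {E F : S.Modules} (hE : Coh.IsQCoh E) (hF : Coh.IsQCoh F) (u : E ⟶ F) [Epi u]
    {A B : RelSpec.QCAlg S} {jA : E ⟶ A.toModule} {jB : F ⟶ B.toModule} (hA : RelSpec.IsSymAlg E A jA)
    (hB : RelSpec.IsSymAlg F B jB) (ψ : A ⟶ B) (hψ : jA ≫ RelSpec.QCAlg.Hom.toModuleMap ψ = u ≫ jB) :
    IsClosedImmersion (RelSpec.QCAlg.specMap ψ) := by
  refine (IsZariskiLocalAtTarget.iff_of_openCover (P := @IsClosedImmersion) A.glueData.cover).2 fun U => ?_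
  have hc : A.str.app (op U.1) ≫ ψ.hom.app (op U.1) = B.str.app (op U.1) := NatTrans.congr_app ψ.comm (op U.1)
  have hsq : IsPullback (B.ι U.1 U.2) (Spec.map (ψ.hom.app (op U.1))) (RelSpec.QCAlg.specMap ψ) (A.ι U.1 U.2) := by
    refine IsPullback.of_bot ?_ (RelSpec.QCAlg.ι_specMap U.1 U.2 ψ) (RelSpecX.isPullback_ι (A := A) U.1 U.2)
    rw [RelSpec.QCAlg.specMap_π, ← Spec.map_comp, hc]
    exact RelSpecX.isPullback_ι (A := B) U.1 U.2
  have hsurj : Function.Surjective (ψ.hom.app (op U.1)) := by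
    obtain ⟨e, he, hej⟩ := exists_sec hE hA U.2
    obtain ⟨e', he', hej'⟩ := exists_sec hF hB U.2
    suffices h : ∀ z, ∃ a, ψ.hom.app (op U.1) a = e'.symm z from fun b => by
      obtain ⟨a, ha⟩ := h (e' b)
      exact ⟨a, ha.trans (e'.symm_apply_apply b)⟩
    intro z
    induction z using SymmetricAlgebra.induction with
    | algebraMap r =>
      exact ⟨A.str.app (op U.1) r, (congr($hc r)).trans (e'.eq_symm_apply.2 (he' r))⟩
    | ι m =>
      obtain ⟨x, rfl⟩ := QCoh.app_surjective_of_epi hE hF u U.2 m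
      exact ⟨(show A.presheaf.obj (op U.1) from jA.val.app (op U.1) x),
        (congrArg (fun t : E ⟶ B.toModule => t.val.app (op U.1) x) hψ).trans (e'.eq_symm_apply.2 (hej' _))⟩
    | mul a b ha hb =>
      obtain ⟨p, hp⟩ := ha; obtain ⟨q, hq⟩ := hb
      exact ⟨p * q, by rw [map_mul, map_mul, hp, hq]⟩
    | add a b ha hb =>
      obtain ⟨p, hp⟩ := ha; obtain ⟨q, hq⟩ := hb
      exact ⟨p + q, by rw [map_add, map_add, hp, hq]⟩
  haveI : IsClosedImmersion (Spec.map (ψ.hom.app (op U.1))) := IsClosedImmersion.spec_of_surjective _ hsurj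
  show IsClosedImmersion (pullback.snd (RelSpec.QCAlg.specMap ψ) (A.ι U.1 U.2))
  rw [← hsq.isoPullback_inv_snd]
  infer_instance

end Groth.Agent.SymSh
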