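import Groth.Agent.SymSh.Algebra
import Mathlib.RingTheory.IsTensorProduct
import Mathlib.Algebra.Category.Ring.Constructions

/-!
# Pushout squares of symmetric algebras
-/

universe u

open CategoryTheory CategoryTheory.Limits

noncomputable section

namespace Groth.Agent.SymSh

/-- Ring maps out of a ring identified with a symmetric algebra agree if they agree on scalars and generators. -/
theorem ringHom_ext' {R M A : Type u} [CommRing R] [AddCommGroup M] [Module R M] [CommRing A]
    {strA : R →+* A} {a : M → A} (eA : A ≃+* SymmetricAlgebra R M) (hA : ∀ r, eA (strA r) = algebraMap _ _ r)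
    (hA' : ∀ m, eA (a m) = SymmetricAlgebra.ι R M m) {T : Type*} [Semiring T] {F G : A →+* T}
    (h1 : ∀ r, F (strA r) = G (strA r)) (h2 : ∀ m, F (a m) = G (a m)) : F = G := by
  refine RingHom.ext fun x => ?_
  have := RingHom.congr_fun (ringHom_ext (F := F.comp eA.symm.toRingHom) (G := G.comp eA.symm.toRingHom)
    (fun r => ?_) fun m => ?_) (eA x)
  · simpa using this
  · show F (eA.symm _) = G (eA.symm _)
    rw [← hA, RingEquiv.symm_apply_apply, h1]
  · show F (eA.symm _) = G (eA.symm _)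
    rw [← hA', RingEquiv.symm_apply_apply, h2]

/-- Symmetric algebras commute with base change. -/
theorem isPushout_of_isBaseChange {R S M N A B : Type u} [CommRing R] [CommRing S] [Algebra R S]
    [AddCommGroup M] [Module R M] [AddCommGroup N] [Module S N] [Module R N] [IsScalarTower R S N]
    [CommRing A] [CommRing B] (strA : R →+* A) (strB : S →+* B) (a : M → A) (b : N → B)
    (eA : A ≃+* SymmetricAlgebra R M) (hA : ∀ r, eA (strA r) = algebraMap _ _ r)
    (hA' : ∀ m, eA (a m) = SymmetricAlgebra.ι R M m)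
    (eB : B ≃+* SymmetricAlgebra S N) (hB : ∀ r, eB (strB r) = algebraMap _ _ r)
    (hB' : ∀ n, eB (b n) = SymmetricAlgebra.ι S N n)
    (g : M →ₗ[R] N) (hg : IsBaseChange S g) (f : A →+* B) (hf : ∀ m, f (a m) = b (g m))
    (hf' : ∀ r, f (strA r) = strB (algebraMap R S r)) :
    IsPushout (CommRingCat.ofHom (algebraMap R S)) (CommRingCat.ofHom strA) (CommRingCat.ofHom strB)
      (CommRingCat.ofHom f) := by
  have key : ∀ s : PushoutCocone (CommRingCat.ofHom (algebraMap R S)) (CommRingCat.ofHom strA),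
      ∃ d : B →+* s.pt, ((∀ r, d (strB r) = s.inl r) ∧ ∀ x, d (f x) = s.inr x) ∧
        ∀ d' : B →+* s.pt, (∀ r, d' (strB r) = s.inl r) → (∀ x, d' (f x) = s.inr x) → d' = d := by
    intro s
    have hc : ∀ r, s.inl (algebraMap R S r) = s.inr (strA r) := fun r => congr($(s.condition) r)
    letI : Algebra S s.pt := s.inl.hom.toAlgebra
    letI : Algebra R s.pt := (s.inl.hom.comp (algebraMap R S)).toAlgebra
    haveI : IsScalarTower R S s.pt := .of_algebraMap_eq fun _ => rfl
    let ψ₀ : M →ₗ[R] s.pt :=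
      { toFun := fun m => s.inr (a m)
        map_add' := fun p q => by
          show s.inr _ = s.inr _ + s.inr _
          rw [← map_add]
          refine congrArg _ (eA.injective ?_)
          rw [map_add, hA', hA', hA', map_add]
        map_smul' := fun c m => by
          have e : a (c • m) = strA c * a m := eA.injective (by
            rw [map_mul, hA', hA, hA', map_smul, Algebra.smul_def])
          show s.inr (a (c • m)) = _
          rw [e, map_mul, RingHom.id_apply, Algebra.smul_def, ← hc]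
          rfl }
    let ψ : N →ₗ[S] s.pt := hg.lift ψ₀
    refine ⟨(SymmetricAlgebra.lift ψ).toRingHom.comp eB.toRingHom, ⟨fun r => ?_, fun x => ?_⟩, fun d' h1 h2 => ?_⟩
    · show SymmetricAlgebra.lift ψ (eB (strB r)) = _
      rw [hB, AlgHom.commutes]; rfl
    · refine RingHom.congr_fun (f := (((SymmetricAlgebra.lift ψ).toRingHom.comp eB.toRingHom).comp f))
        (g := s.inr.hom) (ringHom_ext' eA hA hA' (fun r => ?_) fun m => ?_) x
      · show SymmetricAlgebra.lift ψ (eB (f (strA r))) = s.inr (strA r)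
        rw [hf', hB, AlgHom.commutes, ← hc]; rfl
      · show SymmetricAlgebra.lift ψ (eB (f (a m))) = s.inr (a m)
        rw [hf, hB', SymmetricAlgebra.lift_ι_apply]
        exact hg.lift_eq ψ₀ m
    · refine ringHom_ext' eB hB hB' (fun r => ?_) fun n => ?_
      · show d' (strB r) = SymmetricAlgebra.lift ψ (eB (strB r))
        rw [hB, AlgHom.commutes, h1]; rfl
      · show d' (b n) = SymmetricAlgebra.lift ψ (eB (b n))
        rw [hB', SymmetricAlgebra.lift_ι_apply]
        let ψ' : N →ₗ[S] s.pt :=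
          { toFun := fun n => d' (b n)
            map_add' := fun p q => by
              rw [← map_add]
              refine congrArg _ (eB.injective ?_)
              rw [map_add, hB', hB', hB', map_add]
            map_smul' := fun c m => by
              have e : b (c • m) = strB c * b m := eB.injective (by
                rw [map_mul, hB', hB, hB', map_smul, Algebra.smul_def])
              rw [e, map_mul, h1, RingHom.id_apply, Algebra.smul_def]
              rfl }
        have : ψ' = ψ := hg.algHom_ext _ _ fun m => by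
          show d' (b (g m)) = ψ (g m)
          rw [hg.lift_eq ψ₀ m, ← hf, h2]
          rfl
        exact congr($this n)
  choose d hd hu using key
  refine IsPushout.of_isColimit' ⟨?_⟩ (PushoutCocone.IsColimit.mk ?_ (fun s => CommRingCat.ofHom (d s))
    (fun s => CommRingCat.hom_ext (RingHom.ext (hd s).1)) (fun s => CommRingCat.hom_ext (RingHom.ext (hd s).2))
    fun s m h1 h2 => CommRingCat.hom_ext (hu s m.hom (fun r => congr($h1 r)) fun x => congr($h2 x)))
  all_goals exact CommRingCat.hom_ext (RingHom.ext fun r => (hf' r).symm)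

/-- The symmetric algebra of a direct sum is the coproduct of the symmetric algebras. -/
theorem isPushout_of_sum {R M N P A₁ A₂ A : Type u} [CommRing R] [AddCommGroup M] [Module R M] [AddCommGroup N]
    [Module R N] [AddCommGroup P] [Module R P] [CommRing A₁] [CommRing A₂] [CommRing A]
    (s₁ : R →+* A₁) (s₂ : R →+* A₂) (s : R →+* A) (a₁ : M → A₁) (a₂ : N → A₂) (a : P → A)
    (e₁ : A₁ ≃+* SymmetricAlgebra R M) (h₁ : ∀ r, e₁ (s₁ r) = algebraMap _ _ r)
    (h₁' : ∀ m, e₁ (a₁ m) = SymmetricAlgebra.ι R M m)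
    (e₂ : A₂ ≃+* SymmetricAlgebra R N) (h₂ : ∀ r, e₂ (s₂ r) = algebraMap _ _ r)
    (h₂' : ∀ m, e₂ (a₂ m) = SymmetricAlgebra.ι R N m)
    (e : A ≃+* SymmetricAlgebra R P) (h : ∀ r, e (s r) = algebraMap _ _ r)
    (h' : ∀ m, e (a m) = SymmetricAlgebra.ι R P m)
    (i₁ : M →ₗ[R] P) (i₂ : N →ₗ[R] P) (p₁ : P →ₗ[R] M) (p₂ : P →ₗ[R] N)
    (h11 : ∀ m, p₁ (i₁ m) = m) (h12 : ∀ n, p₁ (i₂ n) = 0) (h21 : ∀ m, p₂ (i₁ m) = 0) (h22 : ∀ n, p₂ (i₂ n) = n)
    (hsum : ∀ x, i₁ (p₁ x) + i₂ (p₂ x) = x)
    (f₁ : A₁ →+* A) (hf₁ : ∀ m, f₁ (a₁ m) = a (i₁ m)) (hf₁' : ∀ r, f₁ (s₁ r) = s r)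
    (f₂ : A₂ →+* A) (hf₂ : ∀ m, f₂ (a₂ m) = a (i₂ m)) (hf₂' : ∀ r, f₂ (s₂ r) = s r) :
    IsPushout (CommRingCat.ofHom s₁) (CommRingCat.ofHom s₂) (CommRingCat.ofHom f₁) (CommRingCat.ofHom f₂) := by
  have key : ∀ t : PushoutCocone (CommRingCat.ofHom s₁) (CommRingCat.ofHom s₂),
      ∃ d : A →+* t.pt, ((∀ x, d (f₁ x) = t.inl x) ∧ ∀ x, d (f₂ x) = t.inr x) ∧
        ∀ d' : A →+* t.pt, (∀ r, d' (f₁ r) = t.inl r) → (∀ x, d' (f₂ x) = t.inr x) → d' = d := by
    intro t
    have hc : ∀ r, t.inl (s₁ r) = t.inr (s₂ r) := fun r => congr($(t.condition) r)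
    letI : Algebra R t.pt := (t.inl.hom.comp s₁).toAlgebra
    let φ₁ : M →ₗ[R] t.pt :=
      { toFun := fun m => t.inl (a₁ m)
        map_add' := fun p q => by
          rw [← map_add]
          refine congrArg _ (e₁.injective ?_)
          rw [map_add, h₁', h₁', h₁', map_add]
        map_smul' := fun c m => by
          have e' : a₁ (c • m) = s₁ c * a₁ m := e₁.injective (by
            rw [map_mul, h₁', h₁, h₁', map_smul, Algebra.smul_def])
          rw [e', map_mul, RingHom.id_apply, Algebra.smul_def]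
          rfl }
    let φ₂ : N →ₗ[R] t.pt :=
      { toFun := fun m => t.inr (a₂ m)
        map_add' := fun p q => by
          rw [← map_add]
          refine congrArg _ (e₂.injective ?_)
          rw [map_add, h₂', h₂', h₂', map_add]
        map_smul' := fun c m => by
          have e' : a₂ (c • m) = s₂ c * a₂ m := e₂.injective (by
            rw [map_mul, h₂', h₂, h₂', map_smul, Algebra.smul_def])
          rw [e', map_mul, RingHom.id_apply, Algebra.smul_def, ← hc]
          rfl }
    let ψ : P →ₗ[R] t.pt := φ₁.comp p₁ + φ₂.comp p₂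
    have hψ₁ : ∀ m, ψ (i₁ m) = t.inl (a₁ m) := fun m => by
      show φ₁ (p₁ _) + φ₂ (p₂ _) = _
      rw [h11, h21, map_zero, add_zero]; rfl
    have hψ₂ : ∀ m, ψ (i₂ m) = t.inr (a₂ m) := fun m => by
      show φ₁ (p₁ _) + φ₂ (p₂ _) = _
      rw [h12, h22, map_zero, zero_add]; rfl
    refine ⟨(SymmetricAlgebra.lift ψ).toRingHom.comp e.toRingHom, ⟨fun x => ?_, fun x => ?_⟩, fun d' hd₁ hd₂ => ?_⟩
    · refine RingHom.congr_fun (f := (((SymmetricAlgebra.lift ψ).toRingHom.comp e.toRingHom).comp f₁))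
        (g := t.inl.hom) (ringHom_ext' e₁ h₁ h₁' (fun r => ?_) fun m => ?_) x
      · show SymmetricAlgebra.lift ψ (e (f₁ (s₁ r))) = t.inl (s₁ r)
        rw [hf₁', h, AlgHom.commutes]; rfl
      · show SymmetricAlgebra.lift ψ (e (f₁ (a₁ m))) = t.inl (a₁ m)
        rw [hf₁, h', SymmetricAlgebra.lift_ι_apply, hψ₁]
    · refine RingHom.congr_fun (f := (((SymmetricAlgebra.lift ψ).toRingHom.comp e.toRingHom).comp f₂))
        (g := t.inr.hom) (ringHom_ext' e₂ h₂ h₂' (fun r => ?_) fun m => ?_) x
      · show SymmetricAlgebra.lift ψ (e (f₂ (s₂ r))) = t.inr (s₂ r)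
        rw [hf₂', h, AlgHom.commutes, ← hc]; rfl
      · show SymmetricAlgebra.lift ψ (e (f₂ (a₂ m))) = t.inr (a₂ m)
        rw [hf₂, h', SymmetricAlgebra.lift_ι_apply, hψ₂]
    · refine ringHom_ext' e h h' (fun r => ?_) fun x => ?_
      · show d' (s r) = SymmetricAlgebra.lift ψ (e (s r))
        rw [h, AlgHom.commutes, ← hf₁' r, hd₁]; rfl
      · show d' (a x) = SymmetricAlgebra.lift ψ (e (a x))
        rw [h', SymmetricAlgebra.lift_ι_apply]
        have ha : a x = a (i₁ (p₁ x)) + a (i₂ (p₂ x)) := e.injective (by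
          rw [map_add, h', h', h', ← map_add, hsum])
        rw [ha, map_add, ← hf₁, ← hf₂, hd₁, hd₂]
        rfl
  choose d hd hu using key
  refine IsPushout.of_isColimit' ⟨?_⟩ (PushoutCocone.IsColimit.mk ?_ (fun s => CommRingCat.ofHom (d s))
    (fun s => CommRingCat.hom_ext (RingHom.ext (hd s).1)) (fun s => CommRingCat.hom_ext (RingHom.ext (hd s).2))
    fun s m h1 h2 => CommRingCat.hom_ext (hu s m.hom (fun r => congr($h1 r)) fun x => congr($h2 x)))
  all_goals exact CommRingCat.hom_ext (RingHom.ext fun r => (hf₁' r).trans (hf₂' r).symm)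

end Groth.Agent.SymSh
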