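import Groth.Agent.SymSh.Spec
import Groth.Agent.SymSh.Pushout
import Groth.Agent.QCoh.PullbackBC

/-!
# Inverse images and direct sums of vector bundles
-/

universe u

open CategoryTheory CategoryTheory.Limits AlgebraicGeometry TopologicalSpace Opposite

set_option linter.style.haveILetI false
set_option linter.unusedSectionVars false
set_option backward.isDefEq.respectTransparency false
set_option backward.isDefEq.respectTransparency.types false

noncomputable section

namespace Groth.Agent.SymSh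

open Groth.Agent

variable {S S' : Scheme.{u}}

/-- The symmetric algebra of an inverse image is the inverse image of the symmetric algebra. -/
theorem isQBaseChange (g : S' ⟶ S) (E : S.Modules) (hE : Coh.IsQCoh E) (A : RelSpec.QCAlg S)
    (j : E ⟶ A.toModule) (hA : RelSpec.IsSymAlg E A j) (B : RelSpec.QCAlg S')
    (j' : (Scheme.Modules.pullback g).obj E ⟶ B.toModule)
    (hB : RelSpec.IsSymAlg ((Scheme.Modules.pullback g).obj E) B j') (u : RelSpec.QHom g A B)
    (hu : ∀ (U : S.Opens) (x : Γ(E, U)), (u.app U).hom ((j.app U) x) =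
      (j'.app (g ⁻¹ᵁ U)) (((Scheme.Modules.pullbackPushforwardAdjunction g).unit.app E).app U x)) :
    RelSpec.IsQBaseChange u := by
  intro U hU U' hU' hle
  obtain ⟨eA, hA1, hA2⟩ := exists_sec hE hA hU
  obtain ⟨eB, hB1, hB2⟩ := exists_sec (QCoh.isQCoh_pullback g hE) hB hU'
  letI : Algebra Γ(S, U) Γ(S', U') := (g.appLE U U' hle).hom.toAlgebra
  letI : Module Γ(S, U) Γ((Scheme.Modules.pullback g).obj E, U') :=
    Module.compHom _ (g.appLE U U' hle).hom
  haveI : IsScalarTower Γ(S, U) Γ(S', U') Γ((Scheme.Modules.pullback g).obj E, U') :=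
    .of_algebraMap_smul fun _ _ => rfl
  letI : Module Γ(S, U) (((Scheme.Modules.pullback g).obj E).val.obj (op U')) :=
    Module.compHom _ (g.appLE U U' hle).hom
  haveI : IsScalarTower Γ(S, U) Γ(S', U') (((Scheme.Modules.pullback g).obj E).val.obj (op U')) :=
    .of_algebraMap_smul fun _ _ => rfl
  let l : Γ(E, U) →ₗ[Γ(S, U)] Γ((Scheme.Modules.pullback g).obj E, U') :=
    { toFun := QCoh.pullSec g E hle
      map_add' := QCoh.pullSec_add g E hle
      map_smul' := fun r x => QCoh.pullSec_smul g E hle r x }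
  refine isPushout_of_isBaseChange (A.str.app (op U)).hom (B.str.app (op U')).hom
    (fun x => show A.presheaf.obj (op U) from j.val.app (op U) x)
    (fun x => show B.presheaf.obj (op U') from j'.val.app (op U') x) eA hA1 hA2 eB hB1 hB2 l
    (QCoh.isBaseChange_pullback hU g hU' hE hle (fun _ => rfl) l fun _ => rfl) (u.appLE U U' hle).hom
    (fun x => ?_) fun r => congr($(u.str_appLE U U' hle) r)
  show B.presheaf.map (homOfLE hle).op (u.app U _) = _
  refine (congrArg (B.presheaf.map (homOfLE hle).op) (hu U x)).trans ?_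
  exact (congr($(j'.mapPresheaf.naturality (homOfLE hle).op) _)).symm

/-- The sections of a direct sum over affines make the square of symmetric algebras a pushout. -/
theorem isPushout_biprod {E F : S.Modules} (hE : Coh.IsQCoh E) (hF : Coh.IsQCoh F) {AE AF A : RelSpec.QCAlg S}
    {jE : E ⟶ AE.toModule} {jF : F ⟶ AF.toModule} {j : E ⊞ F ⟶ A.toModule} (hAE : RelSpec.IsSymAlg E AE jE)
    (hAF : RelSpec.IsSymAlg F AF jF) (hA : RelSpec.IsSymAlg (E ⊞ F) A j) (ψE : AE ⟶ A) (ψF : AF ⟶ A)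
    (hψE : jE ≫ RelSpec.QCAlg.Hom.toModuleMap ψE = biprod.inl ≫ j)
    (hψF : jF ≫ RelSpec.QCAlg.Hom.toModuleMap ψF = biprod.inr ≫ j) {U : S.Opens} (hU : IsAffineOpen U) :
    IsPushout (AE.str.app (op U)) (AF.str.app (op U)) (ψE.hom.app (op U)) (ψF.hom.app (op U)) := by
  have hEF : Coh.IsQCoh (E ⊞ F) :=
    QCoh.isQCoh_X₂ (ShortComplex.Splitting.ofHasBinaryBiproduct E F).shortExact hE hF
  obtain ⟨e₁, h₁, h₁'⟩ := exists_sec hE hAE hU
  obtain ⟨e₂, h₂, h₂'⟩ := exists_sec hF hAF hU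
  obtain ⟨e, h, h'⟩ := exists_sec hEF hA hU
  exact isPushout_of_sum (AE.str.app (op U)).hom (AF.str.app (op U)).hom (A.str.app (op U)).hom
    (fun x => show AE.presheaf.obj (op U) from jE.val.app (op U) x)
    (fun x => show AF.presheaf.obj (op U) from jF.val.app (op U) x)
    (fun x => show A.presheaf.obj (op U) from j.val.app (op U) x) e₁ h₁ h₁' e₂ h₂ h₂' e h h'
    ((biprod.inl : E ⟶ E ⊞ F).val.app (op U)).hom ((biprod.inr : F ⟶ E ⊞ F).val.app (op U)).hom
    ((biprod.fst : E ⊞ F ⟶ E).val.app (op U)).hom ((biprod.snd : E ⊞ F ⟶ F).val.app (op U)).hom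
    (fun m => congrArg (fun t : E ⟶ E => t.val.app (op U) m) biprod.inl_fst)
    (fun m => congrArg (fun t : F ⟶ E => t.val.app (op U) m) biprod.inr_fst)
    (fun m => congrArg (fun t : E ⟶ F => t.val.app (op U) m) biprod.inl_snd)
    (fun m => congrArg (fun t : F ⟶ F => t.val.app (op U) m) biprod.inr_snd)
    (fun x => congrArg (fun t : E ⊞ F ⟶ E ⊞ F => t.val.app (op U) x) biprod.total)
    (ψE.hom.app (op U)).hom (fun m => congrArg (fun t : E ⟶ A.toModule => t.val.app (op U) m) hψE)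
    (fun r => congr($(NatTrans.congr_app ψE.comm (op U)) r))
    (ψF.hom.app (op U)).hom (fun m => congrArg (fun t : F ⟶ A.toModule => t.val.app (op U) m) hψF)
    (fun r => congr($(NatTrans.congr_app ψF.comm (op U)) r))

/-- A square of relative spectra is cartesian if its squares of algebras over affines are pushouts. -/
theorem isPullback_specMap {A₁ A₂ A : RelSpec.QCAlg S} (φ₁ : A₁ ⟶ A) (φ₂ : A₂ ⟶ A)
    (hpo : ∀ (U : S.Opens), IsAffineOpen U →
      IsPushout (A₁.str.app (op U)) (A₂.str.app (op U)) (φ₁.hom.app (op U)) (φ₂.hom.app (op U))) :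
    IsPullback (RelSpec.QCAlg.specMap φ₁) (RelSpec.QCAlg.specMap φ₂) A₁.π A₂.π := by
  have w : RelSpec.QCAlg.specMap φ₁ ≫ A₁.π = RelSpec.QCAlg.specMap φ₂ ≫ A₂.π := by
    rw [RelSpec.QCAlg.specMap_π, RelSpec.QCAlg.specMap_π]
  refine IsPullback.of_iso_pullback ⟨w⟩ (@asIso _ _ _ _ (pullback.lift _ _ w) ?_)
    (pullback.lift_fst _ _ _) (pullback.lift_snd _ _ _)
  set c := pullback.lift _ _ w
  have hcov : IsOpenCover fun U : S.affineOpens => pullback.snd A₁.π A₂.π ⁻¹ᵁ (A₂.π ⁻¹ᵁ U.1) :=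
    eq_top_iff.2 fun z _ => by
      obtain ⟨_, ⟨W, hW, rfl⟩, hzW, -⟩ := S.isBasis_affineOpens.exists_subset_of_mem_open
        (Set.mem_univ ((pullback.snd A₁.π A₂.π ≫ A₂.π).base z)) isOpen_univ
      exact Opens.mem_iSup.2 ⟨⟨W, hW⟩, hzW⟩
  refine (IsZariskiLocalAtTarget.iff_of_iSup_eq_top (P := MorphismProperty.isomorphisms Scheme.{u})
    (f := c) _ hcov).2 fun U => ?_
  obtain ⟨U, hU⟩ := U
  set V := pullback.snd A₁.π A₂.π ⁻¹ᵁ (A₂.π ⁻¹ᵁ U)
  have hout : IsPullback (A.ι U hU ≫ RelSpec.QCAlg.specMap φ₁) (Spec.map (φ₂.hom.app (op U))) A₁.π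
      (A₂.ι U hU ≫ A₂.π) := by
    rw [RelSpec.QCAlg.ι_specMap, A₂.ι_π]
    exact (isPullback_SpecMap_of_isPushout _ _ _ _ (hpo U hU)).paste_horiz (RelSpecX.isPullback_ι U hU)
  have hk : IsPullback (A.ι U hU ≫ c) (Spec.map (φ₂.hom.app (op U)))
      (pullback.snd A₁.π A₂.π) (A₂.ι U hU) :=
    IsPullback.of_right (by rw [Category.assoc, pullback.lift_fst]; exact hout)
      (by rw [Category.assoc, pullback.lift_snd, RelSpec.QCAlg.ι_specMap])
      (IsPullback.of_hasPullback A₁.π A₂.π)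
  have : IsOpenImmersion (A.ι U hU ≫ c) := MorphismProperty.of_isPullback hk.flip inferInstance
  have hrange : Set.range (A.ι U hU ≫ c) = Set.range V.ι := by
    rw [← hk.isoPullback_hom_fst, Scheme.Opens.range_ι]
    simp only [Scheme.Hom.comp_base, TopCat.hom_comp, ContinuousMap.coe_comp]
    rw [Set.range_comp, Set.range_eq_univ.mpr, Set.image_univ, Scheme.Pullback.range_fst]
    · show _ = (pullback.snd A₁.π A₂.π).base ⁻¹' ((A₂.π ⁻¹ᵁ U : A₂.spec.Opens) : Set A₂.spec)
      rw [A₂.π_preimage U hU]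
      rfl
    · exact hk.isoPullback.hom.surjective
  have hpre : c ⁻¹ᵁ V = A.π ⁻¹ᵁ U := by
    show ((c ≫ pullback.snd A₁.π A₂.π) ≫ A₂.π) ⁻¹ᵁ U = _
    rw [pullback.lift_snd, RelSpec.QCAlg.specMap_π]
  have hr' : Set.range (c ⁻¹ᵁ V).ι = Set.range (A.ι U hU) := by
    rw [Scheme.Opens.range_ι, hpre, A.π_preimage U hU]
    rfl
  show IsIso (c ∣_ V)
  have key : c ∣_ V = (IsOpenImmersion.isoOfRangeEq (c ⁻¹ᵁ V).ι (A.ι U hU) hr').hom ≫
      (IsOpenImmersion.isoOfRangeEq (A.ι U hU ≫ c) V.ι hrange).hom := by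
    rw [← cancel_mono V.ι, morphismRestrict_ι, Category.assoc,
      IsOpenImmersion.isoOfRangeEq_hom_fac, IsOpenImmersion.isoOfRangeEq_hom_fac_assoc]
  rw [key]
  infer_instance

end Groth.Agent.SymSh
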