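import Groth.Agent.RelSpecX.Gamma

/-!
# Quasi-coherent algebras from data on affine opens
-/

universe u

open CategoryTheory CategoryTheory.Limits AlgebraicGeometry TopologicalSpace Opposite

set_option linter.style.haveILetI false
set_option backward.isDefEq.respectTransparency false
set_option backward.isDefEq.respectTransparency.types false

noncomputable section

namespace Groth.Agent.SymSh

variable {S : Scheme.{u}} {F : S.AffineZariskiSiteᵒᵖ ⥤ CommRingCat.{u}}
  {α : (Scheme.AffineZariskiSite.toOpensFunctor S).op ⋙ S.presheaf ⟶ F} (H : α.Coequifibered)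

/-- The glueing datum. -/
def glue : (Scheme.AffineZariskiSite.directedCover S).RelativeGluingData :=
  Scheme.AffineZariskiSite.relativeGluingData H

instance : ((glue H).functor ⋙ Scheme.forget).IsLocallyDirected :=
  Scheme.Cover.RelativeGluingData.instIsLocallyDirectedI₀CompFunctorForgetOfIsThin ..

/-- The structure map of the glued scheme. -/
def gπ : (glue H).glued ⟶ S := (glue H).toBase

/-- The chart. -/
def gι (U : S.AffineZariskiSite) : Spec (F.obj (op U)) ⟶ (glue H).glued := (glue H).cover.f U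

instance (U : S.AffineZariskiSite) : IsOpenImmersion (gι H U) := (glue H).cover.map_prop _

theorem gι_π (U : S.AffineZariskiSite) :
    gι H U ≫ gπ H = Spec.map (α.app (op U)) ≫ U.2.fromSpec :=
  colimit.ι_desc _ _

theorem gπ_preimage (U : S.AffineZariskiSite) : gπ H ⁻¹ᵁ U.1 = (gι H U).opensRange := by
  simpa using! (glue H).toBase_preimage_eq_opensRange_ι U

instance : IsAffineHom (gπ H) where
  isAffine_preimage U hU := by
    rw [gπ_preimage H ⟨U, hU⟩]
    exact isAffineOpen_opensRange (gι H ⟨U, hU⟩)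

theorem top_le_gpreimage (U : S.AffineZariskiSite) :
    (⊤ : (Spec (F.obj (op U))).Opens) ≤ gι H U ⁻¹ᵁ (gπ H ⁻¹ᵁ U.1) := by
  rw [← Scheme.Hom.comp_preimage, gι_π, Scheme.Hom.comp_preimage, U.2.fromSpec_preimage_self]
  exact le_top

theorem gι_res {U V : S.AffineZariskiSite} (i : V ⟶ U) : Spec.map (F.map i.op) ≫ gι H U = gι H V :=
  colimit.w (glue H).functor i

/-- The algebra on a scheme attached to data on affine opens. -/
def alg : RelSpec.QCAlg S := RelSpec.QCAlg.directImage (gπ H)

/-- Sections over an affine open. -/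
def gsec (U : S.AffineZariskiSite) : (alg H).presheaf.obj (op U.1) ⟶ F.obj (op U) :=
  (gι H U).appLE (gπ H ⁻¹ᵁ U.1) ⊤ (top_le_gpreimage H U) ≫ (Scheme.ΓSpecIso (F.obj (op U))).hom

theorem isIso_gsec (U : S.AffineZariskiSite) : IsIso (gsec H U) := by
  haveI : IsIso ((gι H U).appLE (gπ H ⁻¹ᵁ U.1) ⊤ (top_le_gpreimage H U)) :=
    RelSpecX.isIso_appLE_of_le_range _ _ _ (gπ_preimage H U).le
      (le_antisymm (top_le_gpreimage H U) le_top)
  exact inferInstanceAs (IsIso (_ ≫ _))

theorem gsec_naturality {U V : S.AffineZariskiSite} (i : V ⟶ U) :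
    (alg H).presheaf.map (homOfLE (Scheme.AffineZariskiSite.toOpens_mono i.le)).op ≫ gsec H V =
      gsec H U ≫ F.map i.op := by
  change (glue H).glued.presheaf.map
      (homOfLE ((gπ H).preimage_mono (Scheme.AffineZariskiSite.toOpens_mono i.le))).op ≫ gsec H V = _
  simp only [gsec, Category.assoc, ← Scheme.ΓSpecIso_naturality]
  simp only [← Category.assoc]
  congr 1
  simp only [Scheme.Hom.appTop, Scheme.Hom.appLE, Category.assoc]
  have h1 := (Scheme.Hom.comp_app (Spec.map (F.map i.op)) (gι H U) (gπ H ⁻¹ᵁ U.1)).symm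
  rw [Scheme.Hom.naturality_assoc, Scheme.Hom.naturality, reassoc_of% h1,
    Scheme.Hom.congr_app (gι_res H i), Category.assoc, ← Functor.map_comp, ← Functor.map_comp]
  rfl

theorem str_gsec (U : S.AffineZariskiSite) : (alg H).str.app (op U.1) ≫ gsec H U = α.app (op U) := by
  change (gπ H).app U.1 ≫ gsec H U = α.app (op U)
  have h1 := Scheme.Hom.congr_app (gι_π H U) U.1
  have h2 := (Scheme.Hom.comp_app (gι H U) (gπ H) U.1).symm
  have hk : ∀ k : (op ⊤ : (Spec (F.obj (op U))).Opensᵒᵖ) ⟶ op ⊤,
      (Spec (F.obj (op U))).presheaf.map k = 𝟙 _ := fun k => by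
    rw [Subsingleton.elim k (𝟙 _)]; exact CategoryTheory.Functor.map_id _ _
  simp only [gsec, Scheme.Hom.appLE, Category.assoc]
  rw [reassoc_of% h2, h1, Scheme.Hom.comp_app, U.2.fromSpec_app_self]
  simp only [Category.assoc]
  rw [Scheme.Hom.naturality_assoc]
  simp only [← Functor.map_comp_assoc]
  erw [hk, Category.id_comp]
  rw [← cancel_epi (Scheme.ΓSpecIso Γ(S, U.1)).hom, Iso.hom_inv_id_assoc]
  erw [Scheme.ΓSpecIso_naturality]
  rfl

/-- The identification with the data on affine opens. -/
def eta : (Scheme.AffineZariskiSite.toOpensFunctor S).op ⋙ (alg H).presheaf ≅ F :=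
  NatIso.ofComponents (fun U => @asIso _ _ _ _ (gsec H U.unop) (isIso_gsec H U.unop))
    fun {U V} i => gsec_naturality H i.unop

theorem str_eta : (Scheme.AffineZariskiSite.toOpensFunctor S).op.whiskerLeft (alg H).str ≫ (eta H).hom = α := by
  ext U : 2
  exact str_gsec H U.unop

/-- Restriction to affine opens is bijective on maps into a quasi-coherent algebra. -/
def restrictEquiv (P : TopCat.Presheaf CommRingCat.{u} S.carrier) (B : RelSpec.QCAlg S) :
    ((Scheme.AffineZariskiSite.toOpensFunctor S).op ⋙ P ⟶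
      (Scheme.AffineZariskiSite.toOpensFunctor S).op ⋙ B.presheaf) ≃ (P ⟶ B.presheaf) :=
  Functor.IsCoverDense.restrictHomEquivHom (G := Scheme.AffineZariskiSite.toOpensFunctor S)
    (K := Opens.grothendieckTopology S) (ℱ := P)
    (ℱ' := (⟨B.presheaf, B.isSheaf⟩ : TopCat.Sheaf CommRingCat.{u} S.carrier))

theorem restrictEquiv_symm (P : TopCat.Presheaf CommRingCat.{u} S.carrier) (B : RelSpec.QCAlg S)
    (θ : P ⟶ B.presheaf) :
    (restrictEquiv P B).symm θ = (Scheme.AffineZariskiSite.toOpensFunctor S).op.whiskerLeft θ := rfl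

/-- Algebra maps agreeing on affine opens are equal. -/
theorem hom_ext_affine {A B : RelSpec.QCAlg S} {f g : A ⟶ B}
    (h : ∀ U : S.AffineZariskiSite, f.hom.app (op U.1) = g.hom.app (op U.1)) : f = g := by
  refine RelSpec.QCAlg.hom_ext ((restrictEquiv A.presheaf B).symm.injective ?_)
  rw [restrictEquiv_symm, restrictEquiv_symm]
  ext U : 2
  exact h U.unop

/-- Algebra maps from compatible maps on affine opens. -/
theorem exists_hom {A B : RelSpec.QCAlg S}
    (θ : ∀ U : S.AffineZariskiSite, A.presheaf.obj (op U.1) ⟶ B.presheaf.obj (op U.1))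
    (hθ : ∀ {U V : S.AffineZariskiSite} (i : V ⟶ U),
      A.presheaf.map (homOfLE (Scheme.AffineZariskiSite.toOpens_mono i.le)).op ≫ θ V =
        θ U ≫ B.presheaf.map (homOfLE (Scheme.AffineZariskiSite.toOpens_mono i.le)).op)
    (hs : ∀ U : S.AffineZariskiSite, A.str.app (op U.1) ≫ θ U = B.str.app (op U.1)) :
    ∃ f : A ⟶ B, ∀ U : S.AffineZariskiSite, f.hom.app (op U.1) = θ U := by
  let Θ : (Scheme.AffineZariskiSite.toOpensFunctor S).op ⋙ A.presheaf ⟶
      (Scheme.AffineZariskiSite.toOpensFunctor S).op ⋙ B.presheaf :=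
    { app := fun U => θ U.unop
      naturality := fun U V i => hθ i.unop }
  let f := restrictEquiv A.presheaf B Θ
  have hf : (Scheme.AffineZariskiSite.toOpensFunctor S).op.whiskerLeft f = Θ := by
    rw [← restrictEquiv_symm]
    exact Equiv.symm_apply_apply _ _
  have happ : ∀ U : S.AffineZariskiSite, f.app (op U.1) = θ U := fun U => NatTrans.congr_app hf (op U)
  refine ⟨⟨f, (restrictEquiv S.presheaf B).symm.injective ?_⟩, happ⟩
  rw [restrictEquiv_symm, restrictEquiv_symm]
  ext U : 2
  show A.str.app (op U.unop.1) ≫ f.app (op U.unop.1) = B.str.app (op U.unop.1)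
  rw [happ, hs]

end Groth.Agent.SymSh
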