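import Groth.Agent.SymSh.Algebra
import Groth.Agent.SymSh.OfAffine
import Groth.Agent.ExtPowSh.Loc
import Groth.Agent.ExtPowSh.Functor

/-!
# The symmetric algebra of a quasi-coherent module
-/

universe u

open CategoryTheory CategoryTheory.Limits AlgebraicGeometry TopologicalSpace Opposite

set_option linter.style.haveILetI false
set_option linter.unusedSectionVars false
set_option backward.isDefEq.respectTransparency false
set_option backward.isDefEq.respectTransparency.types false

noncomputable section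

namespace Groth.Agent.SymSh

open Groth.Agent

variable {S : Scheme.{u}}

/-- The symmetric algebras of the sections on affine opens. -/
def symF (E : S.Modules) : S.AffineZariskiSiteᵒᵖ ⥤ CommRingCat.{u} where
  obj U := CommRingCat.of (SymmetricAlgebra Γ(S, U.unop.1) (E.val.obj (op U.unop.1)))
  map {U V} i := CommRingCat.ofHom
    (mapRing (ExtPowSh.resL E (Scheme.AffineZariskiSite.toOpens_mono i.unop.le)))
  map_id U := by
    refine CommRingCat.hom_ext (ringHom_ext (fun r => ?_) fun m => ?_)
    · refine (mapRing_algebraMap _ r).trans (congrArg _ ?_)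
      exact congr($(S.presheaf.map_id (op U.unop.1)) r)
    · refine (mapRing_ι _ m).trans (congrArg _ ?_)
      exact congr($(E.val.presheaf.map_id (op U.unop.1)) m)
  map_comp {U V W} i j := by
    refine CommRingCat.hom_ext (ringHom_ext (fun r => ?_) fun m => ?_)
    · show mapRing _ (algebraMap _ _ r) = mapRing _ (mapRing _ (algebraMap _ _ r))
      rw [mapRing_algebraMap, mapRing_algebraMap, mapRing_algebraMap]
      refine congrArg _ ?_
      exact congr($(S.presheaf.map_comp (homOfLE (Scheme.AffineZariskiSite.toOpens_mono i.unop.le)).op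
        (homOfLE (Scheme.AffineZariskiSite.toOpens_mono j.unop.le)).op) r)
    · show mapRing _ (SymmetricAlgebra.ι _ _ m) = mapRing _ (mapRing _ (SymmetricAlgebra.ι _ _ m))
      rw [mapRing_ι, mapRing_ι, mapRing_ι]
      refine congrArg _ ?_
      exact congr($(E.val.presheaf.map_comp (homOfLE (Scheme.AffineZariskiSite.toOpens_mono i.unop.le)).op
        (homOfLE (Scheme.AffineZariskiSite.toOpens_mono j.unop.le)).op) m)

/-- The scalars. -/
def symα (E : S.Modules) : (Scheme.AffineZariskiSite.toOpensFunctor S).op ⋙ S.presheaf ⟶ symF E where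
  app U := CommRingCat.ofHom (algebraMap Γ(S, U.unop.1) (SymmetricAlgebra Γ(S, U.unop.1) (E.val.obj (op U.unop.1))))
  naturality U V i := CommRingCat.hom_ext (RingHom.ext fun r => (mapRing_algebraMap _ r).symm)

theorem coequifibered (E : S.Modules) (hE : Coh.IsQCoh E) : (symα E).Coequifibered := by
  refine Scheme.AffineZariskiSite.coequifibered_iff_forall_isLocalizationAway.mpr fun U r => ?_
  letI := (S.presheaf.map (homOfLE (S.basicOpen_le r)).op).hom.toAlgebra
  letI : Module Γ(S, U.1) (E.val.obj (op (S.basicOpen r))) :=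
    Module.compHom _ (S.presheaf.map (homOfLE (S.basicOpen_le r)).op).hom
  haveI : IsScalarTower Γ(S, U.1) Γ(S, S.basicOpen r) (E.val.obj (op (S.basicOpen r))) :=
    .of_algebraMap_smul fun _ _ => rfl
  haveI : IsLocalization.Away r Γ(S, S.basicOpen r) := U.2.isLocalization_basicOpen r
  let g₀ : E.val.obj (op U.1) →ₗ[Γ(S, U.1)] E.val.obj (op (S.basicOpen r)) :=
    { toFun := ExtPowSh.resL E (S.basicOpen_le r), map_add' := map_add _,
      map_smul' := fun c a => LinearMap.map_smulₛₗ _ c a }
  haveI : IsLocalizedModule (Submonoid.powers r) g₀ := QCoh.isLocalizedModule_basicRes r hE U.2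
  exact isLocalization_mapRing r g₀ (ExtPowSh.resL E (S.basicOpen_le r)) fun _ => rfl

/-- The symmetric algebra. -/
def Sym (E : S.Modules) (hE : Coh.IsQCoh E) : RelSpec.QCAlg S := alg (coequifibered E hE)

variable (E : S.Modules) (hE : Coh.IsQCoh E)

/-- Sections over an affine open. -/
def sec (U : S.AffineZariskiSite) :
    (Sym E hE).presheaf.obj (op U.1) ≃+* SymmetricAlgebra Γ(S, U.1) (E.val.obj (op U.1)) :=
  ((eta (coequifibered E hE)).app (op U)).commRingCatIsoToRingEquiv

theorem sec_map {U V : S.AffineZariskiSite} (i : V ⟶ U) (z : (Sym E hE).presheaf.obj (op U.1)) :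
    sec E hE V ((Sym E hE).presheaf.map (homOfLE (Scheme.AffineZariskiSite.toOpens_mono i.le)).op z) =
      mapRing (ExtPowSh.resL E (Scheme.AffineZariskiSite.toOpens_mono i.le)) (sec E hE U z) :=
  congr($(gsec_naturality (coequifibered E hE) i) z)

theorem sec_str (U : S.AffineZariskiSite) (r : Γ(S, U.1)) :
    sec E hE U ((Sym E hE).str.app (op U.1) r) = algebraMap _ _ r :=
  congr($(str_gsec (coequifibered E hE) U) r)

/-- Generators over an affine open. -/
def gen (U : S.AffineZariskiSite) :
    E.val.obj (op U.1) →ₗ[Γ(S, U.1)] (Sym E hE).toModule.val.obj (op U.1) where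
  toFun e := (sec E hE U).symm (SymmetricAlgebra.ι _ _ e)
  map_add' a b := by
    show (sec E hE U).symm _ = (sec E hE U).symm _ + (sec E hE U).symm _
    rw [map_add, map_add]
  map_smul' c a := by
    show (sec E hE U).symm _ = (Sym E hE).str.app (op U.1) c * (sec E hE U).symm _
    rw [map_smul, Algebra.smul_def, map_mul, ← sec_str, RingEquiv.symm_apply_apply]

/-- Inclusions of smaller affine opens are covered by morphisms of the site. -/
theorem exists_cover {U V : S.Opens} (hU : IsAffineOpen U) (hV : IsAffineOpen V) (h : V ≤ U) (x : S) (hx : x ∈ V) :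
    ∃ W : S.AffineZariskiSite, x ∈ W.1 ∧ Nonempty (W ⟶ ⟨U, hU⟩) ∧ Nonempty (W ⟶ ⟨V, hV⟩) := by
  obtain ⟨f, hxf, g, he⟩ : ∃ (f : Γ(S, U)), x ∈ S.basicOpen f ∧ ∃ g : Γ(S, V), S.basicOpen g = S.basicOpen f := by
    obtain ⟨f, g, he, hxf⟩ := exists_basicOpen_le_affine_inter hU hV x ⟨h hx, hx⟩
    exact ⟨f, hxf, g, he.symm⟩
  exact ⟨⟨S.basicOpen f, hU.basicOpen f⟩, hxf, ⟨homOfLE ⟨f, rfl⟩⟩, ⟨homOfLE ⟨g, he⟩⟩⟩

/-- Restrictions commute with maps of algebra generators. -/
theorem gen_natural {U V : S.AffineZariskiSite} (i : V ⟶ U) (e : E.val.obj (op U.1)) :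
    (Sym E hE).presheaf.map (homOfLE (Scheme.AffineZariskiSite.toOpens_mono i.le)).op (gen E hE U e) =
      gen E hE V (E.val.map (homOfLE (Scheme.AffineZariskiSite.toOpens_mono i.le)).op e) := by
  apply (sec E hE V).injective
  refine (sec_map E hE i _).trans ?_
  show mapRing _ (sec E hE U ((sec E hE U).symm _)) = sec E hE V ((sec E hE V).symm _)
  rw [RingEquiv.apply_symm_apply, RingEquiv.apply_symm_apply, mapRing_ι]
  rfl

theorem exists_j : ∃ j : E ⟶ (Sym E hE).toModule,
    ∀ (U : S.AffineZariskiSite) (e : E.val.obj (op U.1)), j.val.app (op U.1) e = gen E hE U e := by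
  obtain ⟨j, hj⟩ := ExtPowSh.exists_hom_of_affine (fun U => gen E hE ⟨U.1, U.2⟩) fun U V h e => by
    choose W hxW i₁ i₂ using exists_cover U.2 V.2 h
    refine TopCat.Sheaf.eq_of_locally_eq' ⟨(Sym E hE).toModule.presheaf, (Sym E hE).toModule.isSheaf⟩
      (fun x : V.1 => (W x.1 x.2).1) V.1 (fun x => homOfLE (Scheme.AffineZariskiSite.toOpens_mono (i₂ x.1 x.2).some.le))
      (fun y hy => Opens.mem_iSup.2 ⟨⟨y, hy⟩, hxW y hy⟩) _ _ fun x => ?_
    show (Sym E hE).presheaf.map (homOfLE _).op ((Sym E hE).presheaf.map (homOfLE h).op (gen E hE ⟨U.1, U.2⟩ e)) =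
      (Sym E hE).presheaf.map (homOfLE _).op (gen E hE ⟨V.1, V.2⟩ _)
    refine (congr($((Sym E hE).presheaf.map_comp (homOfLE h).op (homOfLE _).op) _)).symm.trans ?_
    refine Eq.trans ?_ (gen_natural E hE (i₂ x.1 x.2).some _).symm
    refine (gen_natural E hE (i₁ x.1 x.2).some e).trans (congrArg _ ?_)
    exact congr($(E.val.presheaf.map_comp (homOfLE h).op
      (homOfLE (Scheme.AffineZariskiSite.toOpens_mono (i₂ x.1 x.2).some.le)).op) e)
  exact ⟨j, fun U => hj ⟨U.1, U.2⟩⟩

/-- The universal map. -/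
def j : E ⟶ (Sym E hE).toModule := (exists_j E hE).choose

theorem j_app (U : S.AffineZariskiSite) (e : E.val.obj (op U.1)) :
    (j E hE).val.app (op U.1) e = (sec E hE U).symm (SymmetricAlgebra.ι _ _ e) :=
  (exists_j E hE).choose_spec U e

theorem comp_toModuleMap_app {A B : RelSpec.QCAlg S} (φ : E ⟶ A.toModule) (ψ : A ⟶ B) (U : S.Opens)
    (e : E.val.obj (op U)) :
    (φ ≫ RelSpec.QCAlg.Hom.toModuleMap ψ).val.app (op U) e =
      ψ.hom.app (op U) (show A.presheaf.obj (op U) from φ.val.app (op U) e) := rfl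

theorem isSymAlg : RelSpec.IsSymAlg E (Sym E hE) (j E hE) := by
  intro B φ
  let lin : ∀ U : S.AffineZariskiSite,
      letI := (B.str.app (op U.1)).hom.toAlgebra
      E.val.obj (op U.1) →ₗ[Γ(S, U.1)] B.presheaf.obj (op U.1) := fun U =>
    letI := (B.str.app (op U.1)).hom.toAlgebra
    { toFun := fun e => φ.val.app (op U.1) e
      map_add' := fun a b => map_add (φ.val.app (op U.1)).hom a b
      map_smul' := fun c a => ((φ.val.app (op U.1)).hom.map_smul c a).trans
        (Algebra.smul_def (R := Γ(S, U.1)) (A := B.presheaf.obj (op U.1)) c _).symm }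
  let θ : ∀ U : S.AffineZariskiSite, (Sym E hE).presheaf.obj (op U.1) ⟶ B.presheaf.obj (op U.1) := fun U =>
    letI := (B.str.app (op U.1)).hom.toAlgebra
    CommRingCat.ofHom ((SymmetricAlgebra.lift (lin U)).toRingHom.comp (sec E hE U).toRingHom)
  have hθstr : ∀ (U : S.AffineZariskiSite) (r : Γ(S, U.1)),
      θ U ((sec E hE U).symm (algebraMap _ _ r)) = B.str.app (op U.1) r := fun U r => by
    letI := (B.str.app (op U.1)).hom.toAlgebra
    show SymmetricAlgebra.lift (lin U) (sec E hE U _) = _
    rw [RingEquiv.apply_symm_apply, AlgHom.commutes]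
    rfl
  have hθι : ∀ (U : S.AffineZariskiSite) (e : E.val.obj (op U.1)),
      θ U ((sec E hE U).symm (SymmetricAlgebra.ι _ _ e)) = (show B.presheaf.obj (op U.1) from φ.val.app (op U.1) e) :=
    fun U e => by
      letI := (B.str.app (op U.1)).hom.toAlgebra
      show SymmetricAlgebra.lift (lin U) (sec E hE U _) = _
      rw [RingEquiv.apply_symm_apply, SymmetricAlgebra.lift_ι_apply]
      rfl
  obtain ⟨ψ, hψ⟩ := exists_hom (A := Sym E hE) (B := B) θ (fun {U V} i => by
    let r := (homOfLE (Scheme.AffineZariskiSite.toOpens_mono i.le)).op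
    have hs : ∀ z, (Sym E hE).presheaf.map r ((sec E hE U).symm z) =
        (sec E hE V).symm (mapRing (ExtPowSh.resL E (Scheme.AffineZariskiSite.toOpens_mono i.le)) z) := fun z => by
      rw [RingEquiv.eq_symm_apply, sec_map E hE i, RingEquiv.apply_symm_apply]
    refine CommRingCat.hom_ext (RingHom.ext fun z => ?_)
    obtain ⟨z, rfl⟩ := (sec E hE U).symm.surjective z
    show ((θ V).hom.comp ((Sym E hE).presheaf.map r).hom).comp (sec E hE U).symm.toRingHom z =
      ((B.presheaf.map r).hom.comp (θ U).hom).comp (sec E hE U).symm.toRingHom z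
    refine RingHom.congr_fun (ringHom_ext (fun c => ?_) fun e => ?_) z
    · show θ V ((Sym E hE).presheaf.map r _) = B.presheaf.map r (θ U _)
      refine Eq.trans ?_ (congrArg (B.presheaf.map r) (hθstr U c)).symm
      refine (congrArg (θ V) ((hs _).trans (congrArg _ (mapRing_algebraMap _ c)))).trans ((hθstr V _).trans ?_)
      exact congr($(B.str.naturality r) c)
    · show θ V ((Sym E hE).presheaf.map r _) = B.presheaf.map r (θ U _)
      refine Eq.trans ?_ (congrArg (B.presheaf.map r) (hθι U e)).symm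
      refine (congrArg (θ V) ((hs _).trans (congrArg _ (mapRing_ι _ e)))).trans ((hθι V _).trans ?_)
      exact congr($(φ.mapPresheaf.naturality r) e))
    fun U => CommRingCat.hom_ext (RingHom.ext fun c => by
      show θ U ((Sym E hE).str.app (op U.1) c) = _
      rw [← hθstr U c, ← sec_str, RingEquiv.symm_apply_apply])
  refine ⟨ψ, ?_, fun ψ' hψ' => hom_ext_affine fun U => CommRingCat.hom_ext ?_⟩
  · refine sub_eq_zero.1 (ExtPowSh.hom_eq_zero_of_isBasis _ S.isBasis_affineOpens fun U hU e => ?_)
    show (show B.presheaf.obj (op U) from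
        ψ.hom.app (op U) (show (Sym E hE).presheaf.obj (op U) from (j E hE).val.app (op U) e)) -
      (show B.presheaf.obj (op U) from φ.val.app (op U) e) = 0
    rw [sub_eq_zero, hψ ⟨U, hU⟩, j_app E hE ⟨U, hU⟩]
    exact hθι ⟨U, hU⟩ e
  · refine RingHom.ext fun z => ?_
    obtain ⟨z, rfl⟩ := (sec E hE U).symm.surjective z
    show (ψ'.hom.app (op U.1)).hom.comp (sec E hE U).symm.toRingHom z =
      (ψ.hom.app (op U.1)).hom.comp (sec E hE U).symm.toRingHom z
    refine RingHom.congr_fun (ringHom_ext (fun c => ?_) fun e => ?_) z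
    · show ψ'.hom.app (op U.1) _ = ψ.hom.app (op U.1) _
      rw [← sec_str, RingEquiv.toRingHom_eq_coe, RingHom.coe_coe, RingEquiv.symm_apply_apply]
      exact (congr($(NatTrans.congr_app ψ'.comm (op U.1)) c)).trans
        (congr($(NatTrans.congr_app ψ.comm (op U.1)) c)).symm
    · show ψ'.hom.app (op U.1) ((sec E hE U).symm _) = ψ.hom.app (op U.1) ((sec E hE U).symm _)
      rw [hψ, hθι, ← j_app]
      exact congrArg (fun t : E ⟶ B.toModule => t.val.app (op U.1) e) hψ'

end Groth.Agent.SymSh
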