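import Mathlib.LinearAlgebra.SymmetricAlgebra.Basic
import Mathlib.Algebra.Module.LocalizedModule.Basic
import Mathlib.RingTheory.Localization.Away.Basic
import Mathlib.RingTheory.Localization.Module

/-!
# Symmetric algebras along semilinear maps; compatibility with localization
-/

universe u

noncomputable section

namespace Groth.Agent.SymSh

variable {R S T : Type u} [CommRing R] [CommRing S] [CommRing T]
  {M N P : Type u} [AddCommGroup M] [Module R M] [AddCommGroup N] [Module S N] [AddCommGroup P] [Module T P]

/-- The map of symmetric algebras attached to a semilinear map. -/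
def mapRing {φ : R →+* S} (g : M →ₛₗ[φ] N) : SymmetricAlgebra R M →+* SymmetricAlgebra S N :=
  letI : Algebra R (SymmetricAlgebra S N) := ((algebraMap S (SymmetricAlgebra S N)).comp φ).toAlgebra
  (SymmetricAlgebra.lift (R := R)
    ({ toFun := fun m => SymmetricAlgebra.ι S N (g m)
       map_add' := fun a b => by rw [map_add, map_add]
       map_smul' := fun r m => by
        rw [g.map_smulₛₗ, map_smul, Algebra.smul_def]
        exact (Algebra.smul_def (R := R) (A := SymmetricAlgebra S N) r _).symm } :
      M →ₗ[R] SymmetricAlgebra S N)).toRingHom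

theorem mapRing_ι {φ : R →+* S} (g : M →ₛₗ[φ] N) (m : M) :
    mapRing g (SymmetricAlgebra.ι R M m) = SymmetricAlgebra.ι S N (g m) :=
  letI : Algebra R (SymmetricAlgebra S N) := ((algebraMap S (SymmetricAlgebra S N)).comp φ).toAlgebra
  SymmetricAlgebra.lift_ι_apply _ m

theorem mapRing_algebraMap {φ : R →+* S} (g : M →ₛₗ[φ] N) (r : R) :
    mapRing g (algebraMap R (SymmetricAlgebra R M) r) = algebraMap S (SymmetricAlgebra S N) (φ r) :=
  letI : Algebra R (SymmetricAlgebra S N) := ((algebraMap S (SymmetricAlgebra S N)).comp φ).toAlgebra
  AlgHom.commutes _ r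

/-- Ring maps out of a symmetric algebra agree if they agree on scalars and generators. -/
theorem ringHom_ext {B : Type*} [Semiring B] {F G : SymmetricAlgebra R M →+* B}
    (h1 : ∀ r, F (algebraMap R _ r) = G (algebraMap R _ r))
    (h2 : ∀ m, F (SymmetricAlgebra.ι R M m) = G (SymmetricAlgebra.ι R M m)) : F = G := by
  refine RingHom.ext fun x => ?_
  induction x using SymmetricAlgebra.induction with
  | algebraMap r => exact h1 r
  | ι m => exact h2 m
  | mul a b ha hb => rw [map_mul, map_mul, ha, hb]
  | add a b ha hb => rw [map_add, map_add, ha, hb]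

/-- The symmetric algebra commutes with localization. -/
theorem isLocalization_mapRing [Algebra R S] {Q : Type u} [AddCommGroup Q] [Module R Q] [Module S Q]
    [IsScalarTower R S Q] (r : R) [IsLocalization.Away r S] (g₀ : M →ₗ[R] Q)
    [IsLocalizedModule (Submonoid.powers r) g₀] (g : M →ₛₗ[algebraMap R S] Q) (hg : ∀ m, g m = g₀ m) :
    letI := (mapRing g).toAlgebra
    IsLocalization.Away (algebraMap R (SymmetricAlgebra R M) r) (SymmetricAlgebra S Q) := by
  let A := SymmetricAlgebra R M
  let T := SymmetricAlgebra S Q
  let x : A := algebraMap R A r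
  letI : Algebra A T := (mapRing g).toAlgebra
  let L := Localization.Away x
  have hr : IsUnit (algebraMap A L (algebraMap R A r)) := IsLocalization.Away.algebraMap_isUnit x
  -- from the localization
  have hu : IsUnit (mapRing g x) := by
    rw [mapRing_algebraMap]
    exact (IsLocalization.Away.algebraMap_isUnit r).map _
  let a : L →+* T := IsLocalization.Away.lift (g := mapRing g) x hu
  -- to the localization
  let s : S →+* L := IsLocalization.Away.lift (g := (algebraMap A L).comp (algebraMap R A)) r hr
  letI : Algebra S L := s.toAlgebra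
  haveI : IsScalarTower R S L := .of_algebraMap_eq fun z =>
    (IsScalarTower.algebraMap_apply R A L z).trans
      (IsLocalization.Away.lift_eq (g := (algebraMap A L).comp (algebraMap R A)) r hr z).symm
  let f₀ : M →ₗ[R] L :=
    { toFun := fun m => algebraMap A L (SymmetricAlgebra.ι R M m)
      map_add' := fun p q => by rw [map_add, map_add]
      map_smul' := fun c m => by
        rw [map_smul, Algebra.smul_def, map_mul, ← IsScalarTower.algebraMap_apply R A L]
        exact (Algebra.smul_def _ _).symm }
  have hunit : ∀ y : Submonoid.powers r, IsUnit ((algebraMap R (Module.End R L)) (y : R)) := fun y => by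
    obtain ⟨_, n, rfl⟩ := y
    rw [Module.End.isUnit_iff]
    have h : IsUnit (algebraMap R L (r ^ n)) := by
      rw [map_pow, IsScalarTower.algebraMap_apply R A L]
      exact hr.pow n
    refine ⟨fun p q hpq => h.mul_left_cancel ?_, fun q => ⟨h.unit⁻¹.1 * q, ?_⟩⟩
    · simpa only [Module.algebraMap_end_apply, Algebra.smul_def] using hpq
    · rw [Module.algebraMap_end_apply, Algebra.smul_def, ← mul_assoc, IsUnit.mul_val_inv, one_mul]
  let f₁ : Q →ₗ[R] L := IsLocalizedModule.lift (Submonoid.powers r) g₀ f₀ hunit
  let f : Q →ₗ[S] L := f₁.extendScalarsOfIsLocalization (Submonoid.powers r) S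
  let b : T →ₐ[S] L := SymmetricAlgebra.lift f
  have haS : a.comp s = algebraMap S T := IsLocalization.ringHom_ext (Submonoid.powers r) (RingHom.ext fun z => by
    rw [RingHom.comp_apply, RingHom.comp_apply]
    show a (s (algebraMap R S z)) = _
    rw [IsLocalization.Away.lift_eq, RingHom.comp_apply]
    show a (algebraMap A L _) = _
    rw [IsLocalization.Away.lift_eq, mapRing_algebraMap]
    rfl)
  have hf : ∀ m, f (g₀ m) = algebraMap A L (SymmetricAlgebra.ι R M m) := fun m =>
    IsLocalizedModule.lift_apply (Submonoid.powers r) g₀ f₀ hunit m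
  have hba : ∀ l, b (a l) = l := by
    intro l
    refine RingHom.congr_fun (f := b.toRingHom.comp a) (g := RingHom.id L) ?_ l
    refine IsLocalization.ringHom_ext (Submonoid.powers x) (ringHom_ext (fun c => ?_) fun m => ?_)
    · show b (a (algebraMap A L _)) = algebraMap A L _
      rw [IsLocalization.Away.lift_eq, mapRing_algebraMap, AlgHom.commutes]
      exact IsLocalization.Away.lift_eq (g := (algebraMap A L).comp (algebraMap R A)) r hr c
    · show b (a (algebraMap A L _)) = algebraMap A L _
      rw [IsLocalization.Away.lift_eq, mapRing_ι, SymmetricAlgebra.lift_ι_apply, hg, hf]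
  have hab : ∀ t, a (b t) = t := by
    intro t
    induction t using SymmetricAlgebra.induction with
    | algebraMap c => rw [AlgHom.commutes]; exact RingHom.congr_fun haS c
    | ι q =>
      obtain ⟨⟨m, y⟩, hy⟩ := IsLocalizedModule.surj (Submonoid.powers r) g₀ q
      have hym : algebraMap R S (y : R) • q = g₀ m := (algebraMap_smul S (y : R) q).trans hy
      have hyu : IsUnit (algebraMap S T (algebraMap R S (y : R))) :=
        (IsLocalization.map_units S y).map _
      have e1 : algebraMap S T (algebraMap R S (y : R)) * SymmetricAlgebra.ι S Q q =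
          mapRing g (SymmetricAlgebra.ι R M m) := by
        rw [mapRing_ι, hg, ← hym, map_smul, Algebra.smul_def]
      have e2 : s (algebraMap R S (y : R)) * f q = algebraMap A L (SymmetricAlgebra.ι R M m) := by
        rw [← hf, ← hym, map_smul, Algebra.smul_def]
        rfl
      refine hyu.mul_left_cancel ?_
      show algebraMap S T _ * a (SymmetricAlgebra.lift f (SymmetricAlgebra.ι S Q q)) = _
      rw [SymmetricAlgebra.lift_ι_apply, e1]
      refine Eq.trans ?_ ((congrArg a e2).trans (IsLocalization.Away.lift_eq x hu _))
      rw [map_mul]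
      exact congrArg (· * _) (RingHom.congr_fun haS _).symm
    | mul p q hp hq => rw [map_mul, map_mul, hp, hq]
    | add p q hp hq => rw [map_add, map_add, hp, hq]
  let e : L ≃ₐ[A] T :=
    { RingEquiv.ofBijective a ⟨Function.LeftInverse.injective hba, Function.RightInverse.surjective hab⟩ with
      commutes' := fun c => IsLocalization.Away.lift_eq x hu c }
  exact IsLocalization.isLocalization_of_algEquiv (Submonoid.powers x) e

end Groth.Agent.SymSh
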